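import Cfsg.Agent.Fusion91.SimpleFinal
import Cfsg.Agent.TwoFusionB.DihedralAut
import Cfsg.Agent.OddLocal43.Coprime
import Cfsg.Agent.Lib.PGroup.Basic

/-! Groups whose Sylow 2-subgroup is semidihedral or wreathed, presented by generators, and with
enough conjugacy: their 2-fusion systems are simple. -/

set_option autoImplicit false
set_option linter.all false

namespace Cfsg.Agent.Fus93.RankTwoOdd

variable {G : Type*} [Group G]

/-- `A` together with an involution normalizing it. -/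
def ext2 (A : Subgroup G) (w : G) (hw : w * w = 1) (hA : ∀ a ∈ A, w * a * w ∈ A) : Subgroup G where
  carrier := {x | x ∈ A ∨ x * w ∈ A}
  one_mem' := Or.inl (one_mem _)
  mul_mem' := by
    rintro x y (hx | hx) (hy | hy)
    · exact Or.inl (mul_mem hx hy)
    · exact Or.inr (by rw [mul_assoc]; exact mul_mem hx hy)
    · refine Or.inr ?_
      have e : x * y * w = x * w * (w * y * w) := by
        simp only [← mul_assoc, mul_assoc x w w, hw, mul_one]
      rw [e]; exact mul_mem hx (hA _ hy)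
    · refine Or.inl ?_
      have e : x * y = x * w * (w * (y * w) * w) := by
        simp only [← mul_assoc, mul_assoc x w w, hw, mul_one]
        simp only [mul_assoc, hw, mul_one]
      rw [e]; exact mul_mem hx (hA _ hy)
  inv_mem' := by
    rintro x (hx | hx)
    · exact Or.inl (inv_mem hx)
    · refine Or.inr ?_
      have e : x⁻¹ * w = w * (x * w)⁻¹ * w := by
        rw [mul_inv_rev, ← mul_assoc, mul_inv_cancel, one_mul]
      rw [e]; exact hA _ (inv_mem hx)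

theorem card_ext2 [Finite G] {A : Subgroup G} {w : G} (hw : w * w = 1)
    (hA : ∀ a ∈ A, w * a * w ∈ A) (hwA : w ∉ A) :
    Nat.card (ext2 A w hw hA) = 2 * Nat.card A := by
  have hle : A ≤ ext2 A w hw hA := fun x hx => Or.inl hx
  have hidx : (A.subgroupOf (ext2 A w hw hA)).index = 2 := by
    refine Subgroup.index_eq_two_iff.mpr ⟨⟨w, Or.inr (by rw [hw]; exact one_mem _)⟩, fun b => ?_⟩
    rcases b.2 with hb | hb
    · exact Or.inr ⟨hb, fun h => hwA ((Subgroup.mul_mem_cancel_left A hb).mp h)⟩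
    · refine Or.inl ⟨hb, fun h => hwA ((Subgroup.mul_mem_cancel_left A h).mp hb)⟩
  rw [← Subgroup.card_mul_index (A.subgroupOf (ext2 A w hw hA)), hidx,
    Nat.card_congr (Subgroup.subgroupOfEquivOfLe hle).toEquiv, mul_comm]

/-- The criterion: a 2-subgroup of full order with the two properties. -/
theorem isSimple_of_subgroup [Finite G] [Fact (Nat.Prime 2)] (S0 : Subgroup G) (k : ℕ)
    (hk : 0 < k) (hS0 : Nat.card S0 = 2 ^ k) (hG : 2 ^ (Nat.card G).factorization 2 = 2 ^ k)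
    (ha : IsPGroup 2 S0 → Fusion91.NoClosed S0)
    (hb : IsPGroup 2 S0 → Fusion91.OddNormCentral S0) (S : Sylow 2 G) :
    (Cfsg.groupFusionSystem (S : Subgroup G)).IsSimple 2 := by
  have hp : IsPGroup 2 S0 := IsPGroup.of_card hS0
  obtain ⟨c, hc⟩ := MulAction.exists_smul_eq G (Sylow.ofCard S0 (hS0.trans hG.symm)) S
  have hS : (S : Subgroup G) = S0.map (MulAut.conj c).toMonoidHom := by
    rw [← hc]; rfl
  refine Fusion91.groupFusion_simple_local 2 S ?_ (hS ▸ (ha hp).smul c)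
    fun g hg => Fusion91.exists_inner_of_oddNormCentral rfl S (hS ▸ (hb hp).smul c) hg
  intro hbot
  have h1 : Nat.card (S : Subgroup G) = 2 ^ k :=
    S.card_eq_multiplicity.trans hG
  rw [hbot, Subgroup.card_bot] at h1
  exact (Nat.one_lt_two_pow hk.ne').ne h1

theorem exists_involution [Finite G] [Fact (Nat.Prime 2)] {S0 T : Subgroup G}
    (hp : IsPGroup 2 S0) (hTS : T ≤ S0) (hT : T ≠ ⊥)
    (hcl : ∀ x ∈ T, ∀ a : G, a * x * a⁻¹ ∈ S0 → a * x * a⁻¹ ∈ T) :
    ∃ x ∈ T, x ≠ 1 ∧ x * x = 1 ∧ ∀ s ∈ S0, s * x = x * s := by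
  set N := T.subgroupOf S0 with hN
  haveI : N.Normal := by
    refine ⟨fun n hn g => ?_⟩
    exact hcl _ hn g (mul_mem (mul_mem g.2 n.2) (inv_mem g.2))
  have hne : N ≠ ⊥ := by
    intro h
    apply hT
    rw [eq_bot_iff]
    intro x hx
    have : (⟨x, hTS hx⟩ : S0) ∈ N := hx
    rw [h, Subgroup.mem_bot] at this
    exact Subgroup.mem_bot.mpr (congrArg Subtype.val this)
  obtain ⟨x, hx, hx1, hx2⟩ :=
    PGroup.exists_mem_pow_eq_one hp (PGroup.inf_center_ne_bot hp (N := N) hne)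
  refine ⟨x, hx.1, fun h => hx1 (Subtype.ext h), ?_, fun s hs => ?_⟩
  · rw [sq] at hx2
    exact congrArg Subtype.val hx2
  · exact congrArg Subtype.val (Subgroup.mem_center_iff.mp hx.2 ⟨s, hs⟩)

/-- An element of odd order centralizing `A` and normalizing `S` centralizes `S`, when all
elements of `S` outside `A` lie in one coset of `A`. -/
theorem commute_of_index_two [Finite G] {S A : Subgroup G} (hp : IsPGroup 2 S) (hAS : A ≤ S)
    (hco : ∀ x ∈ S, x ∉ A → ∀ y ∈ S, y ∉ A → x * y⁻¹ ∈ A) {g : G}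
    (hg : g ∈ Subgroup.normalizer (S : Set G)) (hodd : Odd (orderOf g))
    (hgA : ∀ a ∈ A, g * a = a * g) : ∀ x ∈ S, g * x = x * g := by
  intro x hx
  by_cases hxA : x ∈ A
  · exact hgA x hxA
  have hgx : g * x * g⁻¹ ∈ S := (Subgroup.mem_normalizer_iff.mp hg x).mp hx
  have hgxA : g * x * g⁻¹ ∉ A := by
    intro h
    have h1 := hgA _ h
    have e : g * x * g⁻¹ = x := by
      have := congrArg (fun t => g⁻¹ * t) h1
      calc g * x * g⁻¹ = g⁻¹ * (g * (g * x * g⁻¹)) := by group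
        _ = g⁻¹ * ((g * x * g⁻¹) * g) := this
        _ = x := by group
    exact hxA (e ▸ h)
  have hc := hco _ hgx hgxA x hx hxA
  refine OddLocal43.commute_of_stab (c := g * x * g⁻¹ * x⁻¹) (hgA _ hc) (by group) ?_
  obtain ⟨t, ht⟩ := IsPGroup.iff_orderOf.mp hp ⟨_, hAS hc⟩
  rw [Subgroup.orderOf_mk] at ht
  rw [ht]
  exact Nat.Coprime.pow_right t (Nat.coprime_two_right.2 hodd)

/-- Odd-order normalizers of a cyclic 2-group centralize it. -/
theorem commute_zpowers [Finite G] {S : Subgroup G} (hp : IsPGroup 2 S) {c : G} (hc : c ∈ S)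
    {g : G} (hodd : Odd (orderOf g)) (hgc : g * c * g⁻¹ ∈ Subgroup.zpowers c) :
    ∀ x ∈ Subgroup.zpowers c, g * x = x * g := by
  set C : Subgroup G := Subgroup.zpowers c with hC
  have hCS : C ≤ S := Subgroup.zpowers_le.mpr hc
  have hmaps : ∀ x ∈ C, g * x * g⁻¹ ∈ C := by
    rintro x ⟨i, rfl⟩
    show g * c ^ i * g⁻¹ ∈ C
    rw [show g * c ^ i * g⁻¹ = (g * c * g⁻¹) ^ i from conj_zpow.symm]
    exact zpow_mem hgc i
  have hgC : g ∈ Subgroup.normalizer (C : Set G) := by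
    rw [Subgroup.mem_normalizer_iff_map_conj_eq]
    refine Subgroup.eq_of_le_of_card_ge ?_
      (Subgroup.card_map_of_injective (MulAut.conj g).injective).ge
    rintro _ ⟨y, hy, rfl⟩
    simpa using hmaps y hy
  haveI : IsCyclic C := inferInstanceAs (IsCyclic (Subgroup.zpowers _))
  exact fun x hx => (Subgroup.mem_centralizer_iff.mp
    (TwoFusionB.mem_centralizer_of_isCyclic_two (hp.to_le hCS) hgC hodd) x hx).symm

section Semidihedral

/-- The semidihedral case. -/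
theorem isSimple_semidihedral [Finite G] [Fact (Nat.Prime 2)] (m : ℕ) (hm : 3 ≤ m) (c φ : G)
    (hc : orderOf c = 2 ^ m) (hφ : φ * φ = 1) (hcφ : φ * c * φ = c ^ (2 ^ (m - 1) - 1))
    (hz : ∃ g : G, g * c ^ (2 ^ (m - 1)) * g⁻¹ = φ)
    (hj : ∃ g : G, g * c ^ (2 ^ (m - 2)) * g⁻¹ = c * φ)
    (hG : 2 ^ (Nat.card G).factorization 2 = 2 ^ (m + 1)) (S : Sylow 2 G) :
    (Cfsg.groupFusionSystem (S : Subgroup G)).IsSimple 2 := by
  obtain ⟨l, rfl⟩ : ∃ l, m = l + 3 := ⟨m - 3, by omega⟩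
  simp only [show l + 3 - 1 = l + 2 by omega, show l + 3 - 2 = l + 1 by omega] at hcφ hz hj
  have hpos : 1 ≤ 2 ^ (l + 2) := Nat.one_le_two_pow
  have hN : 2 ^ (l + 3) = 2 * 2 ^ (l + 2) := by ring
  have hfull : c ^ (2 ^ (l + 3)) = 1 := hc ▸ pow_orderOf_eq_one c
  set C := Subgroup.zpowers c with hC
  have hinv : ∀ a ∈ C, φ * a * φ ∈ C := by
    rintro a ⟨i, rfl⟩
    show φ * c ^ i * φ ∈ C
    have hφi : φ⁻¹ = φ := inv_eq_of_mul_eq_one_right hφ
    have e : φ * c ^ i * φ = (φ * c * φ) ^ i := by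
      conv_lhs => arg 2; rw [← hφi]
      conv_rhs => arg 1; arg 2; rw [← hφi]
      exact conj_zpow.symm
    rw [e, hcφ]
    exact zpow_mem (pow_mem (Subgroup.mem_zpowers c) _) i
  have hc2 : c ^ 2 ≠ 1 := by
    intro h
    have := Nat.le_of_dvd (by norm_num) (hc ▸ orderOf_dvd_of_pow_eq_one h)
    have : 2 ^ 3 ≤ 2 ^ (l + 3) := Nat.pow_le_pow_right (by norm_num) (by omega)
    omega
  have hpp : c ^ (2 ^ (l + 2) - 1) ≠ c := by
    intro h
    apply hc2
    have h1 : c ^ (2 ^ (l + 2)) = c * c := by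
      rw [← Nat.sub_add_cancel hpos, pow_succ, h]
    have h4 : c ^ 4 = 1 := by
      have : (c ^ (2 ^ (l + 2))) ^ 2 = 1 := by rw [← pow_mul, mul_comm, ← hN, hfull]
      rw [h1] at this
      rw [← this]; simp only [pow_succ, pow_zero, one_mul, mul_assoc]
    rw [sq, ← h1]
    exact orderOf_dvd_iff_pow_eq_one.mp
      ((orderOf_dvd_of_pow_eq_one h4).trans (by
        rw [show 4 = 2 ^ 2 by norm_num]; exact pow_dvd_pow 2 (by omega)))
  have hφC : φ ∉ C := by
    rintro ⟨i, hi⟩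
    apply hpp
    rw [← hcφ, ← hi]
    show c ^ i * c * c ^ i = c
    calc c ^ i * c * c ^ i = c * (c ^ i * c ^ i) := by
          rw [(Commute.zpow_self c i).eq, mul_assoc]
      _ = c := by rw [show c ^ i = φ from hi, hφ, mul_one]
  refine isSimple_of_subgroup (ext2 C φ hφ hinv) (l + 3 + 1) (by omega) ?_ hG (fun hp => ?_)
    (fun hp => ?_) S
  · rw [card_ext2 hφ hinv hφC, hC, Nat.card_zpowers, hc]; ring
  · intro T hTS hT hcl
    obtain ⟨x, hxT, hx1, hxx, hxc⟩ := exists_involution hp hTS hT hcl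
    have hcS : c ∈ ext2 C φ hφ hinv := Or.inl (Subgroup.mem_zpowers c)
    have hφS : φ ∈ ext2 C φ hφ hinv := Or.inr (by rw [hφ]; exact one_mem _)
    have hxC : x ∈ C := by
      rcases hTS hxT with h | h
      · exact h
      exfalso
      obtain ⟨i, hi⟩ := h
      apply hpp
      have hxe : x = c ^ i * φ := by
        rw [show c ^ i = x * φ from hi, mul_assoc, hφ, mul_one]
      have h1 := hxc c hcS
      rw [hxe] at h1
      have h2 : c * φ = φ * c := by
        have : c ^ i * (c * φ) = c ^ i * (φ * c) := by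
          rw [← mul_assoc, (Commute.zpow_self c i).eq, mul_assoc, h1, mul_assoc]
        exact mul_left_cancel this
      rw [← hcφ, ← h2, mul_assoc, hφ, mul_one]
    have hzT : c ^ (2 ^ (l + 2)) ∈ T := by
      obtain ⟨i, hi⟩ := hxC
      have hi' : c ^ i = x := hi
      have h2 : c ^ (i + i) = 1 := by rw [zpow_add, hi', hxx]
      rw [← orderOf_dvd_iff_zpow_eq_one, hc] at h2
      have h3 : ((2 ^ (l + 2) : ℕ) : ℤ) ∣ i := by
        rw [hN, ← two_mul] at h2
        push_cast at h2 ⊢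
        exact (mul_dvd_mul_iff_left two_ne_zero).mp h2
      obtain ⟨r, hr⟩ := h3
      rcases Int.even_or_odd r with ⟨r', hr'⟩ | ⟨r', hr'⟩
      · exfalso
        apply hx1
        rw [← hi', hr, hr', ← two_mul, ← mul_assoc]
        have : (((2 ^ (l + 2) : ℕ) : ℤ)) * 2 = ((2 ^ (l + 3) : ℕ) : ℤ) := by push_cast; ring
        rw [this, zpow_mul, zpow_natCast, hfull, one_zpow]
      · have e : c ^ (2 ^ (l + 2)) = x := by
          rw [← hi', hr, hr', mul_add, mul_one, zpow_add, zpow_natCast, ← mul_assoc,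
            show (((2 ^ (l + 2) : ℕ) : ℤ)) * 2 = ((2 ^ (l + 3) : ℕ) : ℤ) by push_cast; ring,
            zpow_mul, zpow_natCast, hfull, one_zpow, one_mul]
        rw [e]; exact hxT
    have hφT : φ ∈ T := by
      obtain ⟨g, hg⟩ := hz
      exact hg ▸ hcl _ hzT g (by rw [hg]; exact hφS)
    have hd : c * φ * c⁻¹ * φ ∈ T :=
      mul_mem (hcl _ hφT c (mul_mem (mul_mem hcS hφS) (inv_mem hcS))) hφT
    have he : c ^ 2 ∈ T := by
      have e1 : c * φ * c⁻¹ * φ = c * (c ^ (2 ^ (l + 2) - 1))⁻¹ := by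
        rw [← hcφ, mul_inv_rev, mul_inv_rev, inv_eq_of_mul_eq_one_right hφ]
        group
      have e2 : c ^ 2 = (c * φ * c⁻¹ * φ) * c ^ (2 ^ (l + 2)) := by
        have e3 : c ^ (2 ^ (l + 2)) = c ^ (2 ^ (l + 2) - 1) * c := by
          rw [← pow_succ, Nat.sub_add_cancel hpos]
        rw [e1, e3, mul_assoc, inv_mul_cancel_left, sq]
      exact e2 ▸ mul_mem hd hzT
    have hcφT : c * φ ∈ T := by
      have hjT : c ^ (2 ^ (l + 1)) ∈ T := by
        rw [pow_succ', pow_mul]; exact pow_mem he _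
      obtain ⟨g, hg⟩ := hj
      exact hg ▸ hcl _ hjT g (by rw [hg]; exact mul_mem hcS hφS)
    have hcT : c ∈ T := by
      have := mul_mem hcφT hφT
      rwa [mul_assoc, hφ, mul_one] at this
    refine le_antisymm hTS ?_
    rintro y (hy | hy)
    · exact Subgroup.zpowers_le.mpr hcT hy
    · have := mul_mem (Subgroup.zpowers_le.mpr hcT hy : y * φ ∈ T) hφT
      rwa [mul_assoc, hφ, mul_one] at this
  · intro g hg hodd
    set S0 := ext2 C φ hφ hinv with hS0
    have hCS : C ≤ S0 := fun x hx => Or.inl hx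
    have hbig : ∀ x ∈ S0, x ^ 4 ≠ 1 → x ∈ C := by
      rintro x (hx | hx) h4
      · exact hx
      exfalso
      obtain ⟨i, hi⟩ := hx
      have hxe : x = c ^ i * φ := by
        rw [show c ^ i = x * φ from hi, mul_assoc, hφ, mul_one]
      have e : φ * c ^ i * φ = (c ^ (2 ^ (l + 2) - 1)) ^ i := by
        rw [← hcφ]
        have hφi : φ⁻¹ = φ := inv_eq_of_mul_eq_one_right hφ
        conv_lhs => arg 2; rw [← hφi]
        conv_rhs => arg 1; arg 2; rw [← hφi]
        exact conj_zpow.symm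
      have e2 : x * x = (c ^ (2 ^ (l + 2))) ^ i := by
        rw [hxe, show c ^ i * φ * (c ^ i * φ) = c ^ i * (φ * c ^ i * φ) by group, e,
          ← ((Commute.refl c).pow_right _).mul_zpow, ← pow_succ', Nat.sub_add_cancel hpos]
      apply h4
      rw [show x ^ 4 = (x * x) * (x * x) by simp only [pow_succ, pow_zero, one_mul, mul_assoc], e2,
        ← ((Commute.refl _)).mul_zpow, ← pow_add, ← two_mul, ← hN, hfull, one_zpow]
    have hgc : g * c * g⁻¹ ∈ C := by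
      refine hbig _ ((Subgroup.mem_normalizer_iff.mp hg c).mp (hCS (Subgroup.mem_zpowers c))) ?_
      rw [conj_pow, Ne, conj_eq_one_iff, ← orderOf_dvd_iff_pow_eq_one, hc]
      intro h
      have := Nat.le_of_dvd (by norm_num) h
      have : 2 ^ 3 ≤ 2 ^ (l + 3) := Nat.pow_le_pow_right (by norm_num) (by omega)
      omega
    refine commute_of_index_two hp hCS ?_ hg hodd
      (commute_zpowers hp (hCS (Subgroup.mem_zpowers c)) hodd hgc)
    rintro x (hx | hx) hxA y (hy | hy) hyA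
    all_goals first | exact absurd hx hxA | exact absurd hy hyA | skip
    have := mul_mem hx (inv_mem hy)
    rw [mul_inv_rev, mul_assoc, mul_inv_cancel_left] at this
    exact this

end Semidihedral

section Wreathed

/-- The wreathed case. -/
theorem isSimple_wreathed [Finite G] [Fact (Nat.Prime 2)] (n : ℕ) (hn : 2 ≤ n) (c₁ c₂ w : G)
    (h₁ : orderOf c₁ = 2 ^ n) (hcomm : Commute c₁ c₂) (hw : w * w = 1) (hwc : w * c₁ * w = c₂)
    (hind : ∀ i j : ℤ, c₁ ^ i * c₂ ^ j = 1 → c₁ ^ i = 1)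
    (hz : ∃ g : G, g * (c₁ * c₂) ^ (2 ^ (n - 1)) * g⁻¹ = w)
    (hb : ∃ g : G, g * (c₁ * c₂⁻¹) * g⁻¹ = c₁)
    (hG : 2 ^ (Nat.card G).factorization 2 = 2 ^ (2 * n + 1)) (S : Sylow 2 G) :
    (Cfsg.groupFusionSystem (S : Subgroup G)).IsSimple 2 := by
  obtain ⟨l, rfl⟩ : ∃ l, n = l + 2 := ⟨n - 2, by omega⟩
  simp only [show l + 2 - 1 = l + 1 by omega] at hz
  have hwi : w⁻¹ = w := inv_eq_of_mul_eq_one_right hw
  have hwc' : w * c₂ * w = c₁ := by
    rw [← hwc]
    simp only [← mul_assoc, hw, one_mul]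
    rw [mul_assoc, hw, mul_one]
  have hN : 2 ^ (l + 2) = 2 * 2 ^ (l + 1) := by ring
  have hfull : c₁ ^ (2 ^ (l + 2)) = 1 := h₁ ▸ pow_orderOf_eq_one c₁
  have hsep : ∀ i j i' j' : ℤ, c₁ ^ i * c₂ ^ j = c₁ ^ i' * c₂ ^ j' →
      c₁ ^ i = c₁ ^ i' ∧ c₂ ^ j = c₂ ^ j' := by
    intro i j i' j' h
    have h' : c₁ ^ (i - i') * c₂ ^ (j - j') = 1 := by
      calc c₁ ^ (i - i') * c₂ ^ (j - j')
          = (c₁ ^ i')⁻¹ * (c₁ ^ i * c₂ ^ j) * (c₂ ^ j')⁻¹ := by group
        _ = 1 := by rw [h]; group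
    have h1 := hind _ _ h'
    rw [h1, one_mul] at h'
    exact ⟨by rwa [zpow_sub, mul_inv_eq_one] at h1, by rwa [zpow_sub, mul_inv_eq_one] at h'⟩
  have hwz : ∀ i : ℤ, w * c₁ ^ i * w = c₂ ^ i := fun i => by
    rw [← hwc]; conv_lhs => arg 2; rw [← hwi]
    conv_rhs => arg 1; arg 2; rw [← hwi]
    exact conj_zpow.symm
  have hwz' : ∀ i : ℤ, w * c₂ ^ i * w = c₁ ^ i := fun i => by
    rw [← hwc']; conv_lhs => arg 2; rw [← hwi]
    conv_rhs => arg 1; arg 2; rw [← hwi]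
    exact conj_zpow.symm
  let ψ : Subgroup.zpowers c₁ × Subgroup.zpowers c₂ →* G :=
    (Subgroup.zpowers c₁).subtype.noncommCoprod (Subgroup.zpowers c₂).subtype (by
      rintro ⟨a, i, rfl⟩ ⟨b, j, rfl⟩
      exact hcomm.zpow_zpow i j)
  have hψinj : Function.Injective ψ := by
    rintro ⟨⟨a, i, rfl⟩, ⟨b, j, rfl⟩⟩ ⟨⟨a', i', rfl⟩, ⟨b', j', rfl⟩⟩ h
    obtain ⟨e1, e2⟩ := hsep i j i' j' h
    exact Prod.ext (Subtype.ext e1) (Subtype.ext e2)
  set A := ψ.range with hA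
  have hmemA : ∀ x ∈ A, ∃ i j : ℤ, x = c₁ ^ i * c₂ ^ j := by
    rintro x ⟨⟨⟨a, i, rfl⟩, ⟨b, j, rfl⟩⟩, rfl⟩
    exact ⟨i, j, rfl⟩
  have hAmem : ∀ i j : ℤ, c₁ ^ i * c₂ ^ j ∈ A := fun i j =>
    ⟨(⟨_, i, rfl⟩, ⟨_, j, rfl⟩), rfl⟩
  have hc₁A : c₁ ∈ A := by simpa using hAmem 1 0
  have hc₂A : c₂ ∈ A := by simpa using hAmem 0 1
  have hAcomm : ∀ x ∈ A, ∀ y ∈ A, x * y = y * x := by
    intro x hx y hy
    obtain ⟨i, j, rfl⟩ := hmemA x hx
    obtain ⟨i', j', rfl⟩ := hmemA y hy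
    exact (((Commute.refl c₁).zpow_zpow i i').mul_right (hcomm.zpow_zpow i j')).mul_left
      (((hcomm.zpow_zpow i' j).symm).mul_right ((Commute.refl c₂).zpow_zpow j j'))
  have hwconj : ∀ i j : ℤ, w * (c₁ ^ i * c₂ ^ j) * w = c₁ ^ j * c₂ ^ i := fun i j => by
    calc w * (c₁ ^ i * c₂ ^ j) * w = (w * c₁ ^ i * w) * (w * c₂ ^ j * w) := by
          simp only [mul_assoc]; rw [← mul_assoc w w, hw, one_mul]
      _ = c₂ ^ i * c₁ ^ j := by rw [hwz, hwz']
      _ = c₁ ^ j * c₂ ^ i := (hcomm.zpow_zpow j i).symm.eq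
  have hinv : ∀ a ∈ A, w * a * w ∈ A := by
    intro a ha
    obtain ⟨i, j, rfl⟩ := hmemA a ha
    rw [hwconj]; exact hAmem j i
  have h1ne : c₁ ^ (2 : ℤ) ≠ 1 := by
    rw [Ne, ← orderOf_dvd_iff_zpow_eq_one, h₁]
    intro h
    have h4 : 2 ^ 2 ≤ 2 ^ (l + 2) := Nat.pow_le_pow_right (by norm_num) (by omega)
    have := Int.le_of_dvd (by norm_num) h
    omega
  have hwA : w ∉ A := by
    intro h
    have e : w * c₁ * w = c₁ := by rw [hAcomm w h c₁ hc₁A, mul_assoc, hw, mul_one]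
    rw [hwc] at e
    have := hind 1 (-1) (by rw [e]; simp)
    rw [zpow_one] at this
    exact h1ne (by rw [this, one_zpow])
  have hzz : ∀ i j : ℤ, (c₁ ^ i * c₂ ^ j) = c₁ ^ j * c₂ ^ i →
      c₁ ^ i * c₂ ^ j = (c₁ * c₂) ^ i := by
    intro i j h
    obtain ⟨e1, e2⟩ := hsep _ _ _ _ h
    rw [hcomm.mul_zpow, e2]
  have hS : ∀ x ∈ ext2 A w hw hinv, x ∉ A → ∃ i j : ℤ, x = c₁ ^ i * c₂ ^ j * w := by
    rintro x (hx | hx) hxA
    · exact absurd hx hxA
    · obtain ⟨i, j, hij⟩ := hmemA _ hx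
      exact ⟨i, j, by rw [← hij, mul_assoc, hw, mul_one]⟩
  have hwS : w ∈ ext2 A w hw hinv := Or.inr (by rw [hw]; exact one_mem _)
  have hAS : A ≤ ext2 A w hw hinv := fun x hx => Or.inl hx
  refine isSimple_of_subgroup (ext2 A w hw hinv) (2 * (l + 2) + 1) (by omega) ?_ hG (fun hp => ?_)
    (fun hp => ?_) S
  · rw [card_ext2 hw hinv hwA, hA, ← Nat.card_congr (MonoidHom.ofInjective hψinj).toEquiv,
      Nat.card_prod, Nat.card_zpowers, Nat.card_zpowers, h₁,
      show orderOf c₂ = 2 ^ (l + 2) by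
        rw [← hwc, ← h₁]; conv_lhs => arg 1; arg 2; rw [← hwi]
        exact orderOf_injective (MulAut.conj w).toMonoidHom (MulAut.conj w).injective c₁]
    ring
  · intro T hTS hT hcl
    obtain ⟨x, hxT, hx1, hxx, hxc⟩ := exists_involution hp hTS hT hcl
    have hxA : x ∈ A := by
      by_contra hxA
      obtain ⟨i, j, rfl⟩ := hS x (hTS hxT) hxA
      have h1 := hxc c₁ (hAS hc₁A)
      rw [← mul_assoc, hAcomm c₁ hc₁A _ (hAmem i j), mul_assoc, mul_assoc (c₁ ^ i * c₂ ^ j) w]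
        at h1
      have h2 := mul_left_cancel h1
      have e : w * c₁ * w = c₁ := by rw [← h2, mul_assoc, hw, mul_one]
      rw [hwc] at e
      have := hind 1 (-1) (by rw [e]; simp)
      rw [zpow_one] at this
      exact h1ne (by rw [this, one_zpow])
    obtain ⟨i, j, rfl⟩ := hmemA x hxA
    have hij : c₁ ^ i * c₂ ^ j = c₁ ^ j * c₂ ^ i := by
      calc c₁ ^ i * c₂ ^ j = w * (c₁ ^ i * c₂ ^ j) * w := by
            rw [hxc w hwS, mul_assoc, hw, mul_one]
        _ = c₁ ^ j * c₂ ^ i := hwconj i j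
    have hxe := hzz i j hij
    rw [hxe] at hxT hxx hx1
    have h2 : (c₁ * c₂) ^ (i + i) = 1 := by rw [zpow_add, hxx]
    rw [hcomm.mul_zpow] at h2
    have h3 := hind _ _ h2
    rw [← orderOf_dvd_iff_zpow_eq_one, h₁] at h3
    have h4 : ((2 ^ (l + 1) : ℕ) : ℤ) ∣ i := by
      rw [hN, ← two_mul] at h3
      push_cast at h3 ⊢
      exact (mul_dvd_mul_iff_left two_ne_zero).mp h3
    obtain ⟨r, hr⟩ := h4
    have hzfull : (c₁ * c₂) ^ (2 ^ (l + 2)) = 1 := by
      have e := congrArg (fun t => w * t * w) hfull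
      simp only [mul_one, hw] at e
      rw [← zpow_natCast, hwz, zpow_natCast] at e
      rw [hcomm.mul_pow, hfull, e, one_mul]
    have hzT : (c₁ * c₂) ^ (2 ^ (l + 1)) ∈ T := by
      rcases Int.even_or_odd r with ⟨r', hr'⟩ | ⟨r', hr'⟩
      · exfalso
        apply hx1
        rw [hr, hr', ← two_mul, ← mul_assoc,
          show (((2 ^ (l + 1) : ℕ) : ℤ)) * 2 = ((2 ^ (l + 2) : ℕ) : ℤ) by push_cast; ring,
          zpow_mul, zpow_natCast, hzfull, one_zpow]
      · have e : (c₁ * c₂) ^ (2 ^ (l + 1)) = (c₁ * c₂) ^ i := by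
          rw [hr, hr', mul_add, mul_one, zpow_add, zpow_natCast, ← mul_assoc,
            show (((2 ^ (l + 1) : ℕ) : ℤ)) * 2 = ((2 ^ (l + 2) : ℕ) : ℤ) by push_cast; ring,
            zpow_mul, zpow_natCast, hzfull, one_zpow, one_mul]
        rw [e]; exact hxT
    have hwT : w ∈ T := by
      obtain ⟨g, hg⟩ := hz
      exact hg ▸ hcl _ hzT g (by rw [hg]; exact hwS)
    have hd : c₁ * c₂⁻¹ ∈ T := by
      have e : c₁ * c₂⁻¹ = c₁ * w * c₁⁻¹ * w := by
        rw [← hwc, mul_inv_rev, mul_inv_rev, hwi]; group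
      rw [e]
      exact mul_mem (hcl _ hwT c₁ (mul_mem (mul_mem (hAS hc₁A) hwS) (inv_mem (hAS hc₁A)))) hwT
    have hcT : c₁ ∈ T := by
      obtain ⟨g, hg⟩ := hb
      exact hg ▸ hcl _ hd g (by rw [hg]; exact hAS hc₁A)
    have hc₂T : c₂ ∈ T := hwc ▸ mul_mem (mul_mem hwT hcT) hwT
    refine le_antisymm hTS ?_
    have hAT : A ≤ T := by
      intro a ha
      obtain ⟨i, j, rfl⟩ := hmemA a ha
      exact mul_mem (zpow_mem hcT _) (zpow_mem hc₂T _)
    rintro y (hy | hy)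
    · exact hAT hy
    · have := mul_mem (hAT hy) hwT
      rwa [mul_assoc, hw, mul_one] at this
  · intro g hg hodd
    set S0 := ext2 A w hw hinv with hS0
    have hgS : ∀ x ∈ S0, g * x * g⁻¹ ∈ S0 := fun x hx =>
      (Subgroup.mem_normalizer_iff.mp hg x).mp hx
    have hgS' : ∀ x ∈ S0, g⁻¹ * x * g ∈ S0 := fun x hx =>
      (Subgroup.mem_normalizer_iff.mp hg _).mpr (by simpa [mul_assoc] using hx)
    -- `A` is the centralizer in `S0` of the squares
    have hAchar : ∀ x ∈ S0, (x ∈ A ↔ ∀ y ∈ S0, x * (y * y) = y * y * x) := by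
      intro x hx
      constructor
      · intro hxA y hy
        by_cases hyA : y ∈ A
        · exact hAcomm x hxA _ (mul_mem hyA hyA)
        obtain ⟨i, j, rfl⟩ := hS y hy hyA
        refine hAcomm x hxA _ ?_
        rw [show c₁ ^ i * c₂ ^ j * w * (c₁ ^ i * c₂ ^ j * w) =
          c₁ ^ i * c₂ ^ j * (w * (c₁ ^ i * c₂ ^ j) * w) by group, hwconj]
        exact mul_mem (hAmem _ _) (hAmem _ _)
      · intro h
        by_contra hxA
        obtain ⟨i, j, rfl⟩ := hS x hx hxA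
        have h1 := h c₁ (hAS hc₁A)
        rw [← mul_assoc (c₁ * c₁), hAcomm (c₁ * c₁) (mul_mem hc₁A hc₁A) _ (hAmem i j), mul_assoc,
          mul_assoc (c₁ ^ i * c₂ ^ j)] at h1
        have h2 := mul_left_cancel h1
        have e : w * c₁ ^ (2 : ℤ) * w = c₁ ^ (2 : ℤ) := by
          rw [zpow_two, h2, mul_assoc, hw, mul_one]
        rw [hwz] at e
        exact h1ne (hind 2 (-2) (by rw [zpow_neg, e, mul_inv_cancel]))
    have hgA : ∀ x ∈ A, g * x * g⁻¹ ∈ A := by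
      intro x hx
      refine (hAchar _ (hgS x (hAS hx))).mpr fun y hy => ?_
      have := (hAchar x (hAS hx)).mp hx _ (hgS' y hy)
      calc g * x * g⁻¹ * (y * y) = g * (x * ((g⁻¹ * y * g) * (g⁻¹ * y * g))) * g⁻¹ := by group
        _ = g * (((g⁻¹ * y * g) * (g⁻¹ * y * g)) * x) * g⁻¹ := by rw [this]
        _ = y * y * (g * x * g⁻¹) := by group
    -- the centre
    have hZ : ∀ x ∈ Subgroup.zpowers (c₁ * c₂), g * x = x * g := by
      refine commute_zpowers hp (hAS (mul_mem hc₁A hc₂A)) hodd ?_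
      obtain ⟨i, j, hij⟩ := hmemA _ (hgA _ (mul_mem hc₁A hc₂A))
      rw [hij]
      refine ⟨i, (hzz i j ?_).symm⟩
      have hcen : ∀ y ∈ S0, c₁ * c₂ * y = y * (c₁ * c₂) := by
        intro y hy
        by_cases hyA : y ∈ A
        · exact hAcomm _ (mul_mem hc₁A hc₂A) y hyA
        obtain ⟨a, b, rfl⟩ := hS y hy hyA
        have hw1 : w * (c₁ * c₂) * w = c₁ * c₂ := by simpa using hwconj 1 1
        calc c₁ * c₂ * (c₁ ^ a * c₂ ^ b * w) = c₁ ^ a * c₂ ^ b * ((c₁ * c₂) * w) := by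
              rw [← mul_assoc, hAcomm _ (mul_mem hc₁A hc₂A) _ (hAmem a b), mul_assoc]
          _ = c₁ ^ a * c₂ ^ b * ((w * (c₁ * c₂) * w) * w) := by rw [hw1]
          _ = c₁ ^ a * c₂ ^ b * w * (c₁ * c₂) := by
              rw [mul_assoc (w * (c₁ * c₂)), hw, mul_one, mul_assoc (c₁ ^ a * c₂ ^ b)]
      have h1 : (g * (c₁ * c₂) * g⁻¹) * w = w * (g * (c₁ * c₂) * g⁻¹) := by
        have := hcen _ (hgS' w hwS)
        calc g * (c₁ * c₂) * g⁻¹ * w = g * (c₁ * c₂ * (g⁻¹ * w * g)) * g⁻¹ := by group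
          _ = g * ((g⁻¹ * w * g) * (c₁ * c₂)) * g⁻¹ := by rw [this]
          _ = w * (g * (c₁ * c₂) * g⁻¹) := by group
      rw [hij] at h1
      rw [← hwconj i j, ← h1, mul_assoc, hw, mul_one]
    -- the commutator
    have hB : ∀ x ∈ Subgroup.zpowers (c₁ * c₂⁻¹), g * x = x * g := by
      refine commute_zpowers hp (hAS (mul_mem hc₁A (inv_mem hc₂A))) hodd ?_
      obtain ⟨i, j, hij⟩ := hmemA _ (hgA _ hc₁A)
      have hgw : g * w * g⁻¹ ∉ A := by
        intro h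
        apply hwA
        refine (hAchar w hwS).mpr fun y hy => ?_
        have := (hAchar _ (hgS w hwS)).mp h _ (hgS y hy)
        calc w * (y * y) = g⁻¹ * ((g * w * g⁻¹) * ((g * y * g⁻¹) * (g * y * g⁻¹))) * g := by group
          _ = g⁻¹ * (((g * y * g⁻¹) * (g * y * g⁻¹)) * (g * w * g⁻¹)) * g := by rw [this]
          _ = y * y * w := by group
      obtain ⟨a, b, hab⟩ := hS _ (hgS w hwS) hgw
      refine ⟨i - j, ?_⟩
      show (c₁ * c₂⁻¹) ^ (i - j) = g * (c₁ * c₂⁻¹) * g⁻¹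
      have e : c₁ * c₂⁻¹ = c₁ * w * c₁⁻¹ * w⁻¹ := by
        rw [← hwc, mul_inv_rev, mul_inv_rev, hwi]; group
      symm
      calc g * (c₁ * c₂⁻¹) * g⁻¹
          = (g * c₁ * g⁻¹) * (g * w * g⁻¹) * (g * c₁ * g⁻¹)⁻¹ * (g * w * g⁻¹)⁻¹ := by
            rw [e]; group
        _ = (c₁ ^ i * c₂ ^ j) * (c₁ ^ a * c₂ ^ b) * (w * (c₁ ^ i * c₂ ^ j)⁻¹ * w) *
              (c₁ ^ a * c₂ ^ b)⁻¹ := by
            rw [hij, hab, mul_inv_rev _ w, hwi]; group
        _ = (c₁ ^ i * c₂ ^ j) * (w * (c₁ ^ i * c₂ ^ j)⁻¹ * w) := by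
            have hm := hinv _ (inv_mem (hAmem i j))
            rw [mul_assoc (c₁ ^ i * c₂ ^ j) (c₁ ^ a * c₂ ^ b), hAcomm _ (hAmem a b) _ hm,
              ← mul_assoc, mul_inv_cancel_right]
        _ = (c₁ ^ i * c₂ ^ j) * (c₁ ^ (-j) * c₂ ^ (-i)) := by
            rw [mul_inv_rev, ← zpow_neg, ← zpow_neg, ← (hcomm.zpow_zpow (-i) (-j)).eq, hwconj]
        _ = (c₁ * c₂⁻¹) ^ (i - j) := by
            rw [(hcomm.inv_right).mul_zpow, inv_zpow', mul_assoc, ← mul_assoc (c₂ ^ j),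
              ← (hcomm.zpow_zpow (-j) j).eq, mul_assoc, ← mul_assoc, ← zpow_add, ← zpow_add]
            congr 2 <;> ring
    have hsq : ∀ x ∈ A, g * (x * x) = x * x * g := by
      have h1 : g * (c₁ * c₁) = c₁ * c₁ * g := by
        have e : c₁ * c₁ = (c₁ * c₂) * (c₁ * c₂⁻¹) := by
          rw [hAcomm (c₁ * c₂) (mul_mem hc₁A hc₂A) _ (mul_mem hc₁A (inv_mem hc₂A)), mul_assoc,
            ← mul_assoc c₂⁻¹, ← hcomm.inv_right.eq, mul_assoc, inv_mul_cancel, mul_one]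
        rw [e, ← mul_assoc, hZ _ (Subgroup.mem_zpowers _), mul_assoc,
          hB _ (Subgroup.mem_zpowers _), ← mul_assoc]
      have h2 : g * (c₂ * c₂) = c₂ * c₂ * g := by
        have e : c₂ * c₂ = (c₁ * c₂) * (c₁ * c₂⁻¹)⁻¹ := by
          rw [mul_inv_rev, inv_inv, hcomm.eq, mul_assoc, ← mul_assoc c₁, hcomm.eq, mul_assoc c₂ c₁,
            mul_inv_cancel, mul_one]
        rw [e, ← mul_assoc, hZ _ (Subgroup.mem_zpowers _), mul_assoc,
          hB _ (inv_mem (Subgroup.mem_zpowers _)), ← mul_assoc]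
      intro x hx
      obtain ⟨i, j, rfl⟩ := hmemA x hx
      have : c₁ ^ i * c₂ ^ j * (c₁ ^ i * c₂ ^ j) = (c₁ * c₁) ^ i * (c₂ * c₂) ^ j := by
        rw [(Commute.refl c₁).mul_zpow, (Commute.refl c₂).mul_zpow]
        exact ((hcomm.zpow_zpow i j).symm).mul_mul_mul_comm _ _
      rw [this]
      exact ((Commute.zpow_right h1 i).mul_right (Commute.zpow_right h2 j)).eq
    have hgA' : ∀ x ∈ A, g * x = x * g := by
      intro x hx
      have hk := mul_mem (hgA x hx) (inv_mem hx)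
      have hk2 : (g * x * g⁻¹ * x⁻¹) * (g * x * g⁻¹ * x⁻¹) = 1 := by
        have e : g * (x * x) * g⁻¹ = x * x := by rw [hsq x hx, mul_inv_cancel_right]
        have hc := hAcomm x⁻¹ (inv_mem hx) _ (hgA x hx)
        calc (g * x * g⁻¹ * x⁻¹) * (g * x * g⁻¹ * x⁻¹)
            = (g * x * g⁻¹) * (x⁻¹ * (g * x * g⁻¹)) * x⁻¹ := by group
          _ = (g * x * g⁻¹) * ((g * x * g⁻¹) * x⁻¹) * x⁻¹ := by rw [hc]
          _ = g * (x * x) * g⁻¹ * (x * x)⁻¹ := by group
          _ = 1 := by rw [e, mul_inv_cancel]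
      refine OddLocal43.commute_of_stab (c := g * x * g⁻¹ * x⁻¹) ?_ (by group) ?_
      · obtain ⟨a, b, hab⟩ := hmemA _ hk
        rw [hab] at hk2 ⊢
        have e : c₁ ^ a * c₂ ^ b * (c₁ ^ a * c₂ ^ b) = c₁ ^ (a + a) * c₂ ^ (b + b) := by
          rw [zpow_add, zpow_add, mul_assoc, ← mul_assoc (c₂ ^ b), ← (hcomm.zpow_zpow a b).eq,
            mul_assoc, ← mul_assoc, mul_assoc]
        rw [e] at hk2
        have hev : ∀ t : ℤ, c₁ ^ (t + t) = 1 → ∃ u, t = 2 * u := by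
          intro t ht
          rw [← orderOf_dvd_iff_zpow_eq_one, h₁] at ht
          obtain ⟨k, hk⟩ := ht
          refine ⟨2 ^ l * k, ?_⟩
          push_cast at hk
          rw [pow_add] at hk
          linarith
        have ha2 := hind _ _ hk2
        rw [ha2, one_mul] at hk2
        obtain ⟨u, rfl⟩ := hev a ha2
        obtain ⟨v, rfl⟩ := hev b (by rw [← hwz', hk2, mul_one, hw])
        have := hsq _ (hAmem u v)
        rw [show c₁ ^ (2 * u) * c₂ ^ (2 * v) = c₁ ^ u * c₂ ^ v * (c₁ ^ u * c₂ ^ v) by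
          rw [two_mul, two_mul, zpow_add, zpow_add]
          exact (hcomm.zpow_zpow u v).mul_mul_mul_comm _ _]
        exact this
      · obtain ⟨t, ht⟩ := IsPGroup.iff_orderOf.mp hp ⟨_, hAS hk⟩
        rw [Subgroup.orderOf_mk] at ht
        rw [ht]
        exact Nat.Coprime.pow_right t (Nat.coprime_two_right.2 hodd)
    refine commute_of_index_two hp hAS ?_ hg hodd hgA'
    rintro x (hx | hx) hxA y (hy | hy) hyA
    all_goals first | exact absurd hx hxA | exact absurd hy hyA | skip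
    have := mul_mem hx (inv_mem hy)
    rw [mul_inv_rev, mul_assoc, mul_inv_cancel_left] at this
    exact this

end Wreathed

end Cfsg.Agent.Fus93.RankTwoOdd
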