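import Cfsg.Agent.Fus93.RankTwoOdd.Model
import Cfsg.Agent.Lib.LinearGroup.Card
import Cfsg.Agent.Lib.Unitary.Center
import Mathlib.NumberTheory.LegendreSymbol.QuadraticChar.Basic

/-! The 2-fusion systems of `PSL₃(q)` and `PSU₃(q)`, `q` odd, are simple. -/

set_option autoImplicit false
set_option linter.all false

namespace Cfsg.Agent.Fus93.RankTwoOdd

open Matrix

theorem exists_orderOf_of_dvd {K : Type*} [Field K] [Fintype K] {d : ℕ} (hd : d ∣ Nat.card Kˣ) :
    ∃ (g : Kˣ) (a : Kˣ), orderOf g = Nat.card Kˣ ∧ a = g ^ (Nat.card Kˣ / d) ∧ orderOf a = d ∧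
      ∀ y, y ∈ Subgroup.zpowers g := by
  obtain ⟨g, hg⟩ := IsCyclic.exists_ofOrder_eq_natCard (α := Kˣ)
  refine ⟨g, _, hg, rfl, ?_, fun y => ?_⟩
  · obtain ⟨e, he⟩ := hd
    have hd0 : 0 < d := Nat.pos_of_ne_zero (by rintro rfl; simp [Nat.card_pos.ne'] at he)
    have he0 : 0 < e := Nat.pos_of_ne_zero (by rintro rfl; simp [Nat.card_pos.ne'] at he)
    rw [orderOf_pow, hg, he, Nat.mul_div_cancel_left _ hd0, Nat.gcd_mul_left_left,
      Nat.mul_div_cancel _ he0]
  · have : Subgroup.zpowers g = ⊤ :=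
      Subgroup.eq_top_of_card_eq _ (by rw [Nat.card_zpowers, hg])
    rw [this]; trivial

theorem exists_two_decomp {N : ℕ} (hN : 0 < N) : ∃ k o, Odd o ∧ N = 2 ^ k * o := by
  obtain ⟨k, o, ho, h⟩ := Nat.exists_eq_pow_mul_and_not_dvd hN.ne' 2 (by norm_num)
  exact ⟨k, o, Nat.odd_iff.mpr (Nat.two_dvd_ne_zero.mp ho), h⟩

theorem two_le_of_four {k o : ℕ} (ho : Odd o) (h : 4 ∣ 2 ^ k * o) : 2 ≤ k := by
  by_contra hk
  obtain ⟨j, rfl⟩ := ho
  obtain rfl | rfl : k = 0 ∨ k = 1 := by omega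
  all_goals (norm_num at h; omega)

theorem two_ne_zero_of_odd {F : Type*} [Field F] [Fintype F] (hodd : Fintype.card F % 2 = 1) :
    (2 : F) ≠ 0 :=
  Ring.two_ne_zero fun e2 => by
    have := FiniteField.even_card_of_char_two e2
    omega

theorem sq_sub_one (r : ℕ) : (r + 1) ^ 2 - 1 = r * (r + 2) :=
  Nat.sub_eq_of_eq_add (by ring)

theorem cube_sub_one (r : ℕ) : (r + 1) ^ 3 - 1 = r * ((r + 1) ^ 2 + (r + 1) + 1) :=
  Nat.sub_eq_of_eq_add (by ring)

theorem odd_quad (q : ℕ) (hq : Odd q) : Odd (q ^ 2 + q + 1) := by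
  rw [Nat.odd_add_one, Nat.not_odd_iff_even, sq, show q * q + q = q * (q + 1) by ring]
  exact Even.mul_left (hq.add_one) q

theorem orderOf_dvd_center {X : Type*} [Group X] {x : X} (hx : x ∈ Subgroup.center X) {d : ℕ}
    (hd : Nat.card (Subgroup.center X) = d) : orderOf x ∣ d := by
  have := orderOf_dvd_natCard (⟨x, hx⟩ : Subgroup.center X)
  rwa [Subgroup.orderOf_mk, hd] at this

theorem odd_gcd_three (r : ℕ) : Odd (Nat.gcd 3 r) :=
  (show Odd 3 by decide).of_dvd_nat (Nat.gcd_dvd_left 3 r)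

section PSL

variable {F : Type*} [Field F] [Fintype F]

theorem psl_two_part (hodd : Fintype.card F % 2 = 1) {k o : ℕ} (ho : Odd o)
    (h : (Fintype.card F - 1) * (Fintype.card F - 1) * (Fintype.card F + 1) = 2 ^ k * o) :
    2 ^ (Nat.card (Matrix.ProjectiveSpecialLinearGroup (Fin 3) F)).factorization 2 = 2 ^ k := by
  have hg := LinearGroup.gcd_mul_card_PSL (F := F) (n := Fin 3)
  rw [Fintype.card_fin, LinearGroup.card_SL_eq_pow_mul_prod 2, Finset.prod_range_succ,
    Finset.prod_range_one, Nat.card_eq_fintype_card (α := F), Fin.sum_univ_three] at hg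
  obtain ⟨r, hr⟩ : ∃ r, Fintype.card F = r + 1 := ⟨Fintype.card F - 1, by omega⟩
  have hq : Odd (r + 1) := by rw [Nat.odd_iff]; omega
  rw [hr] at hg h
  simp only [Nat.add_sub_cancel, show (0 : ℕ) + 2 = 2 from rfl, show (1 : ℕ) + 2 = 3 from rfl,
    sq_sub_one, cube_sub_one] at hg h
  refine two_part_eq (odd_gcd_three r)
    (((hq.pow (n := 3)).mul ho).mul (odd_quad (r + 1) hq)) ?_
  rw [mul_comm, hg]
  norm_num
  calc (r + 1) ^ 3 * (r * (r + 2) * (r * ((r + 1) ^ 2 + (r + 1) + 1)))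
      = (r + 1) ^ 3 * (r * r * (r + 1 + 1)) * ((r + 1) ^ 2 + (r + 1) + 1) := by ring
    _ = _ := by rw [h]; ring

theorem psl_isSimple (hodd : Fintype.card F % 2 = 1)
    (S : Sylow 2 (Matrix.ProjectiveSpecialLinearGroup (Fin 3) F)) :
    (Cfsg.groupFusionSystem (S : Subgroup (Matrix.ProjectiveSpecialLinearGroup (Fin 3) F))).IsSimple 2 := by
  haveI : Fact (Nat.Prime 2) := ⟨Nat.prime_two⟩
  have h2 := two_ne_zero_of_odd hodd
  let π : (⊤ : Subgroup (SL3 F)) →* Matrix.ProjectiveSpecialLinearGroup (Fin 3) F :=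
    (QuotientGroup.mk' (Subgroup.center (SL3 F))).comp (⊤ : Subgroup (SL3 F)).subtype
  have hker : ∀ x, π x = 1 → Odd (orderOf x) := by
    intro x hx
    have hx' : (x : SL3 F) ∈ Subgroup.center (SL3 F) := (QuotientGroup.eq_one_iff _).mp hx
    rw [← Subgroup.orderOf_coe]
    exact (odd_gcd_three _).of_dvd_nat (orderOf_dvd_center hx'
      (by rw [LinearGroup.card_center_SL, Fintype.card_fin]))
  have hq2 : 2 ≤ Fintype.card F := Fintype.one_lt_card
  rcases (show Fintype.card F % 4 = 1 ∨ Fintype.card F % 4 = 3 by omega) with h1 | h3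
  · obtain ⟨n, o, ho, hno⟩ := exists_two_decomp (show 0 < Fintype.card F - 1 by omega)
    have hn : 2 ≤ n := two_le_of_four ho (hno ▸ (by omega : 4 ∣ Fintype.card F - 1))
    have hcard : Nat.card Fˣ = 2 ^ n * o := by rw [Nat.card_units, Nat.card_eq_fintype_card, hno]
    obtain ⟨-, a, -, -, ha, -⟩ := exists_orderOf_of_dvd (K := F) (d := 2 ^ n) (hcard ▸ dvd_mul_right _ _)
    refine isSimple_of_wreathed_model ⊤ π hker h2 a n hn ha (fun _ _ _ _ => Subgroup.mem_top _)
      (Subgroup.mem_top _) (Subgroup.mem_top _) ⟨1, one_ne_zero, Subgroup.mem_top _⟩ ?_ S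
    refine psl_two_part hodd (o := o * o * ((Fintype.card F + 1) / 2))
      ((ho.mul ho).mul (Nat.odd_iff.mpr (by omega))) ?_
    rw [hno]
    conv_lhs => arg 2; rw [show Fintype.card F + 1 = 2 * ((Fintype.card F + 1) / 2) by omega]
    ring
  · obtain ⟨k, o₂, ho₂, hko⟩ := exists_two_decomp (show 0 < Fintype.card F + 1 by omega)
    have hk : 2 ≤ k := two_le_of_four ho₂ (hko ▸ (by omega : 4 ∣ Fintype.card F + 1))
    set o₁ := (Fintype.card F - 1) / 2 with ho1d
    have ho₁ : Odd o₁ := Nat.odd_iff.mpr (by omega)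
    have hq1 : Fintype.card F - 1 = 2 * o₁ := by omega
    haveI : Fact (∀ r : F, r ^ 2 ≠ -1 + 0 * r) := ⟨fun r hr => by
      rw [zero_mul, add_zero] at hr
      exact FiniteField.isSquare_neg_one_iff.mp ⟨r, by rw [← hr, sq]⟩ h3⟩
    letI : Fintype (QA F) := Fintype.ofEquiv (F × F) (QuadraticAlgebra.equivProd (-1 : F) 0).symm
    have hcard : Nat.card (QA F)ˣ = 2 ^ (k + 1) * (o₁ * o₂) := by
      rw [Nat.card_units, Nat.card_congr (QuadraticAlgebra.equivProd (-1 : F) 0), Nat.card_prod,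
        Nat.card_eq_fintype_card]
      obtain ⟨r, hr⟩ : ∃ r, Fintype.card F = r + 1 := ⟨Fintype.card F - 1, by omega⟩
      rw [hr, ← sq, sq_sub_one]
      rw [hr] at hq1 hko
      rw [show r + 2 = r + 1 + 1 by rfl, hko, show r = 2 * o₁ by omega]
      ring
    obtain ⟨g, u, hg, hgu, hu, hgen⟩ := exists_orderOf_of_dvd (K := QA F) (d := 2 ^ (k + 1))
      (hcard ▸ dvd_mul_right _ _)
    let N : (QA F)ˣ →* Fˣ := Units.map (QuadraticAlgebra.norm (a := (-1 : F)) (b := 0))
    have hNu : (N u : F) = -1 := by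
      have hsq : (N u) ^ 2 = 1 := by
        have e1 : (N u) ^ (2 ^ (k + 1)) = 1 := by rw [← map_pow, ← hu, pow_orderOf_eq_one, map_one]
        have e2 : (N u) ^ (2 * o₁) = 1 := by
          rw [← hq1, ← Nat.card_eq_fintype_card, ← Nat.card_units, pow_card_eq_one']
        have e3 := pow_gcd_eq_one.mpr ⟨e1, e2⟩
        rw [pow_succ', Nat.gcd_mul_left, Nat.Coprime.gcd_eq_one
          ((Nat.coprime_two_left.mpr ho₁).pow_left k), mul_one] at e3
        exact e3
      rcases sq_eq_one_iff.mp (show ((N u : F)) ^ 2 = 1 by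
        rw [← Units.val_pow_eq_pow_val, hsq, Units.val_one]) with h | h
      · exfalso
        obtain ⟨y₁, y₂, hy⟩ := FiniteField.exists_root_sum_quadratic
          (f := (Polynomial.X ^ 2 + Polynomial.C (1 : F))) (g := (Polynomial.X ^ 2))
          (Polynomial.degree_X_pow_add_C (by norm_num) 1) (Polynomial.degree_X_pow 2)
          hodd
        simp at hy
        have hny : QuadraticAlgebra.norm (⟨y₁, y₂⟩ : QA F) = -1 := by
          rw [norm_eq]; linear_combination hy
        have hy0 : (⟨y₁, y₂⟩ : QA F) ≠ 0 := by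
          intro e
          rw [e, norm_eq] at hny
          simp at hny
        obtain ⟨j, hj⟩ := hgen (Units.mk0 _ hy0)
        have hj' : (N g) ^ j = -1 := by
          rw [← map_zpow, show g ^ j = _ from hj]
          exact Units.ext hny
        have hNu1 : N g ^ (o₁ * o₂) = 1 := by
          have : N u = 1 := Units.ext h
          rw [hgu, map_pow, hcard, Nat.mul_div_cancel_left _ (Nat.two_pow_pos _)] at this
          exact this
        have : ((-1 : Fˣ)) ^ (o₁ * o₂) = 1 := by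
          rw [← hj', ← zpow_natCast, ← _root_.zpow_mul, mul_comm, _root_.zpow_mul, zpow_natCast, hNu1, _root_.one_zpow]
        rw [(ho₁.mul ho₂).neg_one_pow] at this
        have := congrArg Units.val this
        rw [Units.val_neg, Units.val_one] at this
        exact h2 (by linear_combination -this)
      · exact h
    have hnu : (u : QA F).re * (u : QA F).re + (u : QA F).im * (u : QA F).im = -1 := by
      rw [← norm_eq]; exact hNu
    refine isSimple_of_semidihedral_model ⊤ π hker h2 u (k + 1) (by omega) hu hnu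
      (Subgroup.mem_top _) (Subgroup.mem_top _) (Subgroup.mem_top _)
      (fun _ _ => ⟨1, one_ne_zero, Subgroup.mem_top _⟩) ?_ S
    refine psl_two_part hodd (o := o₁ * o₁ * o₂) ((ho₁.mul ho₁).mul ho₂) ?_
    rw [hq1, hko]; ring

end PSL

section PSU

variable {F : Type*} [Field F] [Fintype F] {q : ℕ} (hF : Fintype.card F = q ^ 2)

theorem transpose_fin3 (a b c d e f g h k : F) :
    (!![a, b, c; d, e, f; g, h, k] : Matrix (Fin 3) (Fin 3) F)ᵀ = !![a, d, g; b, e, h; c, f, k] := by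
  ext i j; fin_cases i <;> fin_cases j <;> rfl

theorem map_fin3 (σ : F →+* F) (a b c d e f g h k : F) :
    (!![a, b, c; d, e, f; g, h, k] : Matrix (Fin 3) (Fin 3) F).map σ =
      !![σ a, σ b, σ c; σ d, σ e, σ f; σ g, σ h, σ k] := by
  ext i j; fin_cases i <;> fin_cases j <;> rfl

include hF in
theorem mem_SU_three (A : SL3 F) {a b c d e f g h k : F}
    (hA : (A : Matrix (Fin 3) (Fin 3) F) = !![a, b, c; d, e, f; g, h, k])
    (h00 : a * a ^ q + d * d ^ q + g * g ^ q = 1)
    (h01 : a * b ^ q + d * e ^ q + g * h ^ q = 0)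
    (h02 : a * c ^ q + d * f ^ q + g * k ^ q = 0)
    (h10 : b * a ^ q + e * d ^ q + h * g ^ q = 0)
    (h11 : b * b ^ q + e * e ^ q + h * h ^ q = 1)
    (h12 : b * c ^ q + e * f ^ q + h * k ^ q = 0)
    (h20 : c * a ^ q + f * d ^ q + k * g ^ q = 0)
    (h21 : c * b ^ q + f * e ^ q + k * h ^ q = 0)
    (h22 : c * c ^ q + f * f ^ q + k * k ^ q = 1) : A ∈ Cfsg.SU 3 F q := by
  set σ := Unitary.conjHom hF with hσ
  have hM : (A : Matrix (Fin 3) (Fin 3) F)ᵀ * (A : Matrix (Fin 3) (Fin 3) F).map σ = 1 := by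
    rw [hA, transpose_fin3, map_fin3, Matrix.mul_fin_three, Matrix.one_fin_three]
    apply fin3_ext <;> simpa [hσ, Unitary.conjHom_apply]
  intro u v
  have e1 : ∀ u v : Fin 3 → F, Cfsg.hermForm 3 F q u v = u ⬝ᵥ (fun i => σ (v i)) := fun _ _ => rfl
  show Cfsg.hermForm 3 F q ((A : Matrix (Fin 3) (Fin 3) F) *ᵥ u)
    ((A : Matrix (Fin 3) (Fin 3) F) *ᵥ v) = _
  rw [e1, e1]
  have e2 : (fun i => σ (((A : Matrix (Fin 3) (Fin 3) F) *ᵥ v) i)) =
      (A : Matrix (Fin 3) (Fin 3) F).map σ *ᵥ (fun i => σ (v i)) := by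
    funext i; simp [Matrix.mulVec, dotProduct, map_sum]
  rw [e2, dotProduct_comm, dotProduct_mulVec, ← mulVec_transpose, mulVec_mulVec, hM, one_mulVec,
    dotProduct_comm]

include hF in
theorem psu_two_part (hodd : q % 2 = 1) {k o : ℕ} (ho : Odd o)
    (h : (q + 1) * (q + 1) * (q - 1) = 2 ^ k * o) :
    2 ^ (Nat.card (Cfsg.PSU 3 F q)).factorization 2 = 2 ^ k := by
  have hg := Unitary.card_PSU hF (n := 3) (by norm_num)
  rw [Finset.prod_range_succ, Finset.prod_range_succ, Finset.prod_range_one] at hg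
  norm_num at hg
  obtain ⟨r, rfl⟩ : ∃ r, q = r + 1 := ⟨q - 1, by omega⟩
  have hq : Odd (r + 1) := Nat.odd_iff.mpr hodd
  have e3 : (r + 1) ^ 3 + 1 = (r + 1 + 1) * ((r + 1) * r + 1) := by ring
  rw [sq_sub_one, e3] at hg
  simp only [Nat.add_sub_cancel] at h
  have hodd' : Odd ((r + 1) * r + 1) := by
    refine Even.add_one (Even.mul_left ?_ _)
    rw [Nat.even_iff]; omega
  refine two_part_eq (odd_gcd_three (r + 1 + 1)) (((hq.pow (n := 3)).mul ho).mul hodd') ?_
  refine Nat.eq_of_mul_eq_mul_left (show 0 < r + 1 + 1 by omega) ?_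
  have : (r + 1 + 1) * (Nat.card (Cfsg.PSU 3 F (r + 1)) * Nat.gcd 3 (r + 1 + 1)) =
      Nat.gcd 3 (r + 1 + 1) * ((r + 1 + 1) * Nat.card (Cfsg.PSU 3 F (r + 1))) := by ring
  rw [this, hg]
  calc _ = (r + 1 + 1) * ((r + 1) ^ 3 * ((r + 1 + 1) * (r + 1 + 1) * r) * ((r + 1) * r + 1)) := by ring
    _ = _ := by rw [h]; ring

include hF in
theorem psu_isSimple (hodd : q % 2 = 1) (S : Sylow 2 (Cfsg.PSU 3 F q)) :
    (Cfsg.groupFusionSystem (S : Subgroup (Cfsg.PSU 3 F q))).IsSimple 2 := by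
  haveI : Fact (Nat.Prime 2) := ⟨Nat.prime_two⟩
  have hFodd : Fintype.card F % 2 = 1 := by rw [hF, Nat.pow_mod, hodd]
  have h2 := two_ne_zero_of_odd hFodd
  set σ := Unitary.conjHom hF with hσ
  have hσp : ∀ x : F, x ^ q = σ x := fun x => rfl
  have hq2 := Unitary.two_le_q hF
  let π := QuotientGroup.mk' (Subgroup.center (Cfsg.SU 3 F q))
  have hker : ∀ x, π x = 1 → Odd (orderOf x) := fun x hx =>
    (odd_gcd_three _).of_dvd_nat (orderOf_dvd_center ((QuotientGroup.eq_one_iff _).mp hx)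
      (Unitary.card_center hF (by norm_num)))
  have hcard : Nat.card Fˣ = (q - 1) * (q + 1) := by
    rw [Nat.card_units, Nat.card_eq_fintype_card, hF]
    obtain ⟨r, rfl⟩ : ∃ r, q = r + 1 := ⟨q - 1, by omega⟩
    rw [sq_sub_one, Nat.add_sub_cancel]
  have hmono : ∀ (A : SL3 F), A = wEl ∨ A = pEl ∨ A = qEl ∨ A = fEl → A ∈ Cfsg.SU 3 F q := by
    rintro A (rfl | rfl | rfl | rfl) <;>
    (first
      | refine mem_SU_three hF _ wEl_coe ?_ ?_ ?_ ?_ ?_ ?_ ?_ ?_ ?_
      | refine mem_SU_three hF _ pEl_coe ?_ ?_ ?_ ?_ ?_ ?_ ?_ ?_ ?_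
      | refine mem_SU_three hF _ qEl_coe ?_ ?_ ?_ ?_ ?_ ?_ ?_ ?_ ?_
      | refine mem_SU_three hF _ fEl_coe ?_ ?_ ?_ ?_ ?_ ?_ ?_ ?_ ?_) <;>
    simp [hσp, map_neg, map_one, map_zero]
  have hhalf : σ (2⁻¹ : F) = 2⁻¹ := by rw [map_inv₀, map_ofNat]
  rcases (show q % 4 = 1 ∨ q % 4 = 3 by omega) with h1 | h3
  · obtain ⟨k, o₂, ho₂, hko⟩ := exists_two_decomp (show 0 < q - 1 by omega)
    have hk : 2 ≤ k := two_le_of_four ho₂ (hko ▸ (by omega : 4 ∣ q - 1))
    set o₁ := (q + 1) / 2 with ho1d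
    have ho₁ : Odd o₁ := Nat.odd_iff.mpr (by omega)
    have hq1 : q + 1 = 2 * o₁ := by omega
    have hcard' : Nat.card Fˣ = 2 ^ (k + 1) * (o₁ * o₂) := by rw [hcard, hko, hq1]; ring
    obtain ⟨-, iu, -, -, hiu, -⟩ := exists_orderOf_of_dvd (K := F) (d := 4)
      (hcard' ▸ Dvd.dvd.mul_right
        (show 2 ^ 2 ∣ 2 ^ (k + 1) from pow_dvd_pow 2 (by omega)) (o₁ * o₂))
    have hi2 : (iu : F) ^ 2 = -1 := by
      have e : ((iu : F) ^ 2) ^ 2 = 1 := by
        rw [← pow_mul, ← Units.val_pow_eq_pow_val, show (2 * 2 : ℕ) = orderOf iu by rw [hiu],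
          pow_orderOf_eq_one, Units.val_one]
      rcases sq_eq_one_iff.mp e with h | h
      · have : iu ^ 2 = 1 := Units.ext (by simpa using h)
        rw [← orderOf_dvd_iff_pow_eq_one, hiu] at this
        norm_num at this
      · exact h
    have hiσ : σ (iu : F) = iu := by
      rw [← hσp, ← Units.val_pow_eq_pow_val]
      congr 1
      rw [show q = (q - 1) + 1 by omega, pow_succ, orderOf_dvd_iff_pow_eq_one.mp
        (hiu ▸ (by omega : 4 ∣ q - 1)), one_mul]
    obtain ⟨-, l, -, -, hl, -⟩ := exists_orderOf_of_dvd (K := F) (d := 2 ^ (k + 1))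
      (hcard' ▸ dvd_mul_right _ _)
    have hi0 : (iu : F) ≠ 0 := iu.ne_zero
    let e : Fˣ →* QA F :=
      { toFun := fun a => ⟨((a : F) + ((a : F) ^ q)⁻¹) / 2, ((a : F) - ((a : F) ^ q)⁻¹) / (2 * iu)⟩
        map_one' := by
          ext <;> simp [← two_mul, h2, one_add_one_eq_two, QuadraticAlgebra.re_one,
            QuadraticAlgebra.im_one]
        map_mul' := fun a b => by
          ext <;> simp [mul_pow] <;> field_simp
          · linear_combination
              (((a : F) * (a : F) ^ q - 1) * ((b : F) * (b : F) ^ q - 1)) * hi2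
          · ring }
    have he : Function.Injective e.toHomUnits := by
      intro a b h
      have h' : e a = e b := congrArg Units.val h
      have e1 := congrArg QuadraticAlgebra.re h'
      have e2 := congrArg QuadraticAlgebra.im h'
      apply Units.ext
      simp [e] at e1 e2
      field_simp at e1 e2
      have : (2 : F) * ((a : F) * (a : F) ^ q * (b : F) ^ q - (b : F) * (a : F) ^ q * (b : F) ^ q) = 0 := by
        linear_combination e1 + e2
      simpa [h2, sub_eq_zero, mul_assoc, mul_comm, mul_left_comm] using this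
    have hlq : ((l : F) ^ (q - 1)) = -1 := by
      have e1 : ((l : F) ^ (q - 1)) ^ 2 = 1 := by
        rw [← pow_mul, ← Units.val_pow_eq_pow_val, hko, show 2 ^ k * o₂ * 2 = 2 ^ (k + 1) * o₂ by ring,
          pow_mul, ← hl, pow_orderOf_eq_one, one_pow, Units.val_one]
      rcases sq_eq_one_iff.mp e1 with h | h
      · have : l ^ (q - 1) = 1 := Units.ext (by simpa using h)
        rw [← orderOf_dvd_iff_pow_eq_one, hl, hko, pow_succ] at this
        have := (Nat.mul_dvd_mul_iff_left (Nat.two_pow_pos k)).mp this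
        exact absurd this ho₂.not_two_dvd_nat
      · exact h
    have hlq' : (l : F) ^ q = -(l : F) := by
      conv_lhs => rw [show q = (q - 1) + 1 by omega, pow_succ, hlq]
      ring
    set x : F := (e l).re with hxd
    set y : F := (e l).im with hyd
    have hx : x = ((l : F) - (l : F)⁻¹) / 2 := by
      rw [hxd]; simp [e, hlq', inv_neg, sub_eq_add_neg]
    have hy : y = ((l : F) + (l : F)⁻¹) / (2 * iu) := by
      rw [hyd]; simp [e, hlq', inv_neg]
    have hxσ : σ x = -x := by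
      rw [hx, map_div₀, map_sub, map_inv₀, map_ofNat, ← hσp, hlq', inv_neg]; ring
    have hyσ : σ y = -y := by
      rw [hy, map_div₀, map_add, map_inv₀, map_mul, map_ofNat, hiσ, ← hσp, hlq', inv_neg]; ring
    have hn : x * x + y * y = -1 := by
      have hl0 : (l : F) ≠ 0 := l.ne_zero
      rw [hx, hy]
      field_simp
      linear_combination (((l : F) ^ 2 + 1) ^ 2) * hi2
    refine isSimple_of_semidihedral_model (Cfsg.SU 3 F q) π hker h2 (e.toHomUnits l) (k + 1)
      (by omega) ((orderOf_injective _ he l).trans hl) hn ?_ (hmono _ (by simp)) (hmono _ (by simp))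
      ?_ ?_ S
    · refine mem_SU_three hF _ (rot_coe _) ?_ ?_ ?_ ?_ ?_ ?_ ?_ ?_ ?_ <;>
        simp [hσp, ← hxd, ← hyd, hxσ, hyσ, hn, map_neg] <;>
        first | linear_combination -hn | linear_combination hn | ring
    · intro s hs
      have hsσ : σ s = s := by
        rcases mul_self_eq_one_iff.mp hs with rfl | rfl <;> simp
      obtain ⟨t, ht⟩ := Unitary.exists_norm_eq hF (t := (2 : F)) (map_ofNat σ 2)
      rw [pow_succ', hσp] at ht
      have ht0 : t ≠ 0 := fun h => h2 (by rw [← ht, h, zero_mul])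
      refine ⟨t, ht0, ?_⟩
      have hσt : σ t ≠ 0 := by rw [Ne, map_eq_zero]; exact ht0
      refine mem_SU_three hF _ (gJ_coe _ _ _ _ h2 ht0 hs hn) ?_ ?_ ?_ ?_ ?_ ?_ ?_ ?_ ?_ <;>
        simp [hσp, ← hxd, ← hyd, hxσ, hyσ, hsσ, map_div₀, map_ofNat] <;>
        field_simp <;>
        first
          | ring1
          | linear_combination -hn + hs - ht
          | linear_combination hn - hs + ht
          | linear_combination (t * σ t + 2) * ht
          | linear_combination -(t * σ t + 2) * ht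
    · refine psu_two_part hF hodd (o := o₁ * o₁ * o₂) ((ho₁.mul ho₁).mul ho₂) ?_
      rw [hq1, hko]; ring
  · obtain ⟨n, o, ho, hno⟩ := exists_two_decomp (show 0 < q + 1 by omega)
    have hn : 2 ≤ n := two_le_of_four ho (hno ▸ (by omega : 4 ∣ q + 1))
    obtain ⟨-, a, -, -, ha, -⟩ := exists_orderOf_of_dvd (K := F) (d := 2 ^ n)
      (hcard ▸ (hno ▸ dvd_mul_right _ _ : 2 ^ n ∣ q + 1).mul_left _)
    obtain ⟨t, ht⟩ := Unitary.exists_norm_eq hF (t := (2⁻¹ : F)) hhalf
    rw [pow_succ', hσp] at ht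
    have ht0 : t ≠ 0 := fun h => inv_ne_zero h2 (by rw [← ht, h, zero_mul])
    refine isSimple_of_wreathed_model (Cfsg.SU 3 F q) π hker h2 a n hn ha ?_ (hmono _ (by simp))
      (hmono _ (by simp)) ⟨t, ht0, ?_⟩ ?_ S
    · have hone : ∀ z ∈ Subgroup.zpowers a, (z : F) * (z : F) ^ q = 1 := fun z hz => by
        rw [← pow_succ', ← Units.val_pow_eq_pow_val, orderOf_dvd_iff_pow_eq_one.mp
          ((orderOf_dvd_of_mem_zpowers hz).trans (ha ▸ hno ▸ dvd_mul_right _ _)), Units.val_one]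
      intro x hx y hy
      have hxy := hone _ (inv_mem (mul_mem hx hy))
      rw [hσp] at hxy
      refine mem_SU_three hF _ ((dg_coe _).trans rfl) ?_ ?_ ?_ ?_ ?_ ?_ ?_ ?_ ?_ <;>
        simp only [hσp, map_zero, mul_zero, zero_mul, add_zero, zero_add] <;>
        first | rfl | exact hxy | exact hσp _ ▸ hone x hx | exact hσp _ ▸ hone y hy
    · refine mem_SU_three hF _ (gW_coe t h2 ht0) ?_ ?_ ?_ ?_ ?_ ?_ ?_ ?_ ?_ <;>
        simp [hσp, map_ofNat, mul_inv] <;>
        (have hσt : σ t ≠ 0 := by rw [Ne, map_eq_zero]; exact ht0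
         field_simp at ht ⊢
         first
          | ring1
          | linear_combination ht
          | linear_combination 2 * ht
          | linear_combination -2 * ht
          | linear_combination (t * σ t * 2 + 1) * ht
          | linear_combination -(t * σ t * 2 + 1) * ht)
    · refine psu_two_part hF hodd (o := o * o * ((q - 1) / 2))
        ((ho.mul ho).mul (Nat.odd_iff.mpr (by omega))) ?_
      rw [hno]
      conv_lhs => arg 2; rw [show q - 1 = 2 * ((q - 1) / 2) by omega]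
      ring

end PSU

end Cfsg.Agent.Fus93.RankTwoOdd
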